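import Groth.Agent.S0591
import Groth.Agent.S9187
import Groth.Agent.S9192
import Groth.Agent.S2581
import Groth.Agent.ConsLib.FGSystem

/-!
# Finite étale covers over an algebraic extension are defined over a finite subextension
-/

set_option autoImplicit false
set_option linter.style.haveILetI false

universe u

open CategoryTheory CategoryTheory.Limits AlgebraicGeometry Opposite

noncomputable section

namespace Groth.Agent.FEtSep

/-- One step of refinement: a model at a stage and a descent statement give a model at a later stage. -/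
theorem refine_step {I : Type u} [SmallCategory I] {D : I ⥤ Scheme.{u}} {c : Cone D} {P : MorphismProperty Scheme.{u}}
    [P.RespectsIso] {Y : Scheme.{u}} {g : Y ⟶ c.pt} {i : I} {Xi : Scheme.{u}} {fi : Xi ⟶ D.obj i} {q : Y ⟶ Xi}
    (hq : IsPullback q g fi (c.π.app i))
    (h : ∃ (j : I) (φ : j ⟶ i) (Xj Yj : Scheme.{u}) (fj : Xj ⟶ Yj) (gj : Yj ⟶ D.obj j) (pY : Yj ⟶ D.obj i)
      (pX : Xj ⟶ Xi), IsPullback pY gj (𝟙 (D.obj i)) (D.map φ) ∧ IsPullback pX fj fi pY ∧ P fj) :
    ∃ (j : I) (φ : j ⟶ i) (Xj : Scheme.{u}) (fj : Xj ⟶ D.obj j) (q' : Y ⟶ Xj) (pX : Xj ⟶ Xi),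
      IsPullback q' g fj (c.π.app j) ∧ IsPullback pX fj fi (D.map φ) ∧ P fj := by
  obtain ⟨j, φ, Xj, Yj, fj, gj, pY, pX, hY, hX, hP⟩ := h
  haveI : IsIso gj := hY.isIso_snd_of_isIso
  have hsq : IsPullback pX (fj ≫ gj) fi (D.map φ) := by simpa using hX.paste_vert hY
  have w : q ≫ fi = (g ≫ c.π.app j) ≫ D.map φ := by rw [Category.assoc, c.w, hq.w]
  refine ⟨j, φ, Xj, fj ≫ gj, hsq.lift q (g ≫ c.π.app j) w, pX, ?_, hsq,
    (MorphismProperty.cancel_right_of_respectsIso P fj gj).2 hP⟩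
  refine IsPullback.of_right (h₁₂ := pX) (h₂₂ := D.map φ) (v₁₃ := fi) ?_ (hsq.lift_snd _ _ _) hsq
  rw [hsq.lift_fst, c.w]
  exact hq

/-- A finite étale cover of the limit is defined at some stage. -/
theorem exists_stage {I : Type u} [SmallCategory I] [IsCofiltered I] {D : I ⥤ Scheme.{u}} {c : Cone D} (hc : IsLimit c)
    [∀ (i j : I) (f : i ⟶ j), IsAffineHom (D.map f)] [∀ i, CompactSpace (D.obj i)] [∀ i, QuasiSeparatedSpace (D.obj i)]
    {Y : Scheme.{u}} (g : Y ⟶ c.pt) [IsFinite g] [Etale g] [Surjective g] :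
    ∃ (i : I) (Xi : Scheme.{u}) (fi : Xi ⟶ D.obj i) (q : Y ⟶ Xi),
      IsPullback q g fi (c.π.app i) ∧ IsFinite fi ∧ Etale fi ∧ Surjective fi := by
  obtain ⟨i₀, X₀, f₀, q₀, h1, h2, h3, hq₀⟩ := Groth.Agent.S0591.result D c hc Y g
  have hid : ∀ i : I, IsPullback (c.π.app i) (𝟙 c.pt) (𝟙 (D.obj i)) (c.π.app i) := fun i =>
    IsPullback.id_vert (c.π.app i)
  haveI : CompactSpace X₀ := QuasiCompact.compactSpace_of_compactSpace f₀
  haveI : QuasiSeparatedSpace X₀ := quasiSeparatedSpace_of_quasiSeparated f₀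
  obtain ⟨i₁, φ₁, X₁, f₁, q₁, p₁, hq₁, hs₁, hf₁⟩ := refine_step (P := @IsFinite) hq₀
    (Groth.Agent.S9187.result D c hc i₀ f₀ (𝟙 _) g (𝟙 _) (c.π.app i₀) q₀ (hid i₀) hq₀)
  haveI : LocallyOfFinitePresentation f₁ := MorphismProperty.of_isPullback hs₁ h1
  haveI : CompactSpace X₁ := QuasiCompact.compactSpace_of_compactSpace f₁
  haveI : QuasiSeparatedSpace X₁ := quasiSeparatedSpace_of_quasiSeparated f₁
  obtain ⟨i₂, φ₂, X₂, f₂, q₂, p₂, hq₂, hs₂, hf₂⟩ := refine_step (P := @Etale) hq₁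
    (Groth.Agent.S9192.result D c hc i₁ f₁ (𝟙 _) g (𝟙 _) (c.π.app i₁) q₁ (hid i₁) hq₁)
  haveI : IsFinite f₂ := MorphismProperty.of_isPullback hs₂ hf₁
  haveI : CompactSpace X₂ := QuasiCompact.compactSpace_of_compactSpace f₂
  haveI : QuasiSeparatedSpace X₂ := quasiSeparatedSpace_of_quasiSeparated f₂
  haveI : LocallyOfFinitePresentation (f₂ ≫ 𝟙 (D.obj i₂)) := inferInstance
  obtain ⟨i₃, φ₃, X₃, f₃, q₃, p₃, hq₃, hs₃, hf₃⟩ := refine_step (P := @Surjective) hq₂
    (Groth.Agent.S2581.result D c hc i₂ f₂ (𝟙 _) g (𝟙 _) (c.π.app i₂) q₂ (hid i₂) hq₂)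
  exact ⟨i₃, X₃, f₃, q₃, hq₃, MorphismProperty.of_isPullback hs₃ ‹IsFinite f₂›,
    MorphismProperty.of_isPullback hs₃ hf₂, hf₃⟩

/-- Finite étale covers over an algebraic extension descend to a finite subextension. -/
theorem main (k K : Type u) [Field k] [Field K] [Algebra k K] [Algebra.IsAlgebraic k K]
    (X : Scheme.{u}) (f : X ⟶ Spec (CommRingCat.of k)) [CompactSpace ↥X] [QuasiSeparatedSpace ↥X]
    (Ybar : Scheme.{u}) (g : Ybar ⟶ pullback f (Spec.map (CommRingCat.ofHom (algebraMap k K))))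
    [IsFinite g] [Etale g] [Surjective g] :
    ∃ (L : IntermediateField k K) (_ : FiniteDimensional k ↥L) (YL : Scheme.{u})
      (gL : YL ⟶ pullback f (Spec.map (CommRingCat.ofHom (algebraMap k ↥L)))) (_ : IsFinite gL) (_ : Etale gL)
      (_ : Surjective gL)
      (c : pullback f (Spec.map (CommRingCat.ofHom (algebraMap k K))) ⟶
        pullback f (Spec.map (CommRingCat.ofHom (algebraMap k ↥L)))),
      c ≫ pullback.fst f (Spec.map (CommRingCat.ofHom (algebraMap k ↥L))) =
        pullback.fst f (Spec.map (CommRingCat.ofHom (algebraMap k K))) ∧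
      c ≫ pullback.snd f (Spec.map (CommRingCat.ofHom (algebraMap k ↥L))) =
        pullback.snd f (Spec.map (CommRingCat.ofHom (algebraMap k K))) ≫
          Spec.map (CommRingCat.ofHom (algebraMap ↥L K)) ∧
      ∃ e : Ybar ⟶ YL, IsPullback e g gL c := by
  let A := ConsLib.fgSys k K (Iso.refl (Spec (CommRingCat.of k)))
  let B := RichLib.LimBC.pb A f
  haveI : ∀ i j (b : i ⟶ j), IsAffineHom (B.D.map b) := fun _ _ b => B.affine_map b
  haveI : ∀ i, CompactSpace (B.D.obj i) := fun i => B.compactSpace_obj i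
  haveI : ∀ i, QuasiSeparatedSpace (B.D.obj i) := fun i => B.quasiSeparatedSpace_obj i
  let e0 : pullback f (Spec.map (CommRingCat.ofHom (algebraMap k K))) ≅ B.c.pt :=
    (pullback.congrHom rfl (Category.comp_id _)).symm
  obtain ⟨i, Xi, fi, q, hq, hfin, het, hsurj⟩ := exists_stage B.hc (g ≫ e0.hom)
  let L : IntermediateField k K := i.unop.1.toIntermediateField' (Subalgebra.isField_of_algebraic _)
  haveI hfinL : FiniteDimensional k L := by
    haveI : Algebra.FiniteType k i.unop.1 := ⟨(Subalgebra.fg_top _).mpr i.unop.2⟩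
    haveI : Algebra.IsAlgebraic k i.unop.1 := Algebra.IsAlgebraic.of_injective i.unop.1.val Subtype.val_injective
    haveI : Algebra.IsIntegral k i.unop.1 := Algebra.IsAlgebraic.isIntegral
    exact (Algebra.IsIntegral.finite : Module.Finite k i.unop.1)
  let τ : pullback f (Spec.map (CommRingCat.ofHom (algebraMap k L))) ≅ B.D.obj i :=
    pullback.congrHom rfl (show Spec.map (CommRingCat.ofHom (algebraMap k L)) = A.t i from (Category.comp_id _).symm)
  have t1 : τ.inv ≫ pullback.fst _ _ = pullback.fst f (A.t i) := by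
    rw [Iso.inv_comp_eq]; exact ((pullback.lift_fst _ _ _).trans (Category.comp_id _)).symm
  have t2 : τ.inv ≫ pullback.snd _ _ = pullback.snd f (A.t i) := by
    rw [Iso.inv_comp_eq]; exact ((pullback.lift_snd _ _ _).trans (Category.comp_id _)).symm
  have u1 : e0.hom ≫ pullback.fst f A.s = pullback.fst f _ := by
    show (pullback.congrHom rfl (Category.comp_id _)).inv ≫ _ = _
    rw [Iso.inv_comp_eq]; exact ((pullback.lift_fst _ _ _).trans (Category.comp_id _)).symm
  have u2 : e0.hom ≫ pullback.snd f A.s = pullback.snd f _ := by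
    show (pullback.congrHom rfl (Category.comp_id _)).inv ≫ _ = _
    rw [Iso.inv_comp_eq]; exact ((pullback.lift_snd _ _ _).trans (Category.comp_id _)).symm
  refine ⟨L, hfinL, Xi, fi ≫ τ.inv, (MorphismProperty.cancel_right_of_respectsIso @IsFinite fi τ.inv).2 hfin,
    (MorphismProperty.cancel_right_of_respectsIso @Etale fi τ.inv).2 het,
    (MorphismProperty.cancel_right_of_respectsIso @Surjective fi τ.inv).2 hsurj,
    e0.hom ≫ B.c.π.app i ≫ τ.inv, ?_, ?_, q, ?_⟩
  · rw [Category.assoc, Category.assoc, t1]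
    exact (congrArg (e0.hom ≫ ·) (RichLib.LimBC.pbπ_fst A f i)).trans u1
  · rw [Category.assoc, Category.assoc, t2]
    refine (congrArg (e0.hom ≫ ·) (RichLib.LimBC.pbπ_snd A f i)).trans ?_
    exact ((Category.assoc _ _ _).symm.trans (congrArg (· ≫ A.c.π.app i) u2))
  · exact hq.of_iso (Iso.refl _) (Iso.refl _) e0.symm τ.symm (by simp) (by simp) (by simp) (by simp)

end Groth.Agent.FEtSep

end
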